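import Cfsg.Agent.U33Degrees.Data
import Cfsg.Agent.Char.Orthogonality
import Mathlib.Algebra.Polynomial.AlgebraMap
import Mathlib.GroupTheory.GroupAction.Quotient
import Mathlib.GroupTheory.Perm.Basic
import Mathlib.LinearAlgebra.PID

/-!
# Irreducible characters of degree 14 and 21 from an action on 63 points

The eigenspace projections of an invariant graph give four characters whose sum is the
permutation character, of norm at most four.
-/

set_option autoImplicit false
set_option maxRecDepth 100000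
set_option linter.style.haveILetI false

namespace CfsgLib.U33Deg

open Polynomial Matrix CfsgLib.Char
open scoped ComplexConjugate

/-- The point numbered by a natural number. -/
def mkPt (n : Nat) : Fin 63 := ⟨n % 63, Nat.mod_lt _ (by norm_num)⟩

/-- A generator as a function. -/
def sigF (l : Fin 4) (i : Fin 63) : Fin 63 := mkPt ((sigT.getD l.val []).getD i.val 0)

theorem sigF_invol : ∀ l i, sigF l (sigF l i) = i := by decide +kernel

/-- A generator as a permutation. -/
def sigP (l : Fin 4) : Equiv.Perm (Fin 63) := Function.Involutive.toPerm _ (sigF_invol l)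

theorem papply (g : Equiv.Perm (Fin 63)) (x : Fin 63) : g (g⁻¹ x) = x :=
  Equiv.apply_symm_apply g x

theorem papply' (g : Equiv.Perm (Fin 63)) (x : Fin 63) : g⁻¹ (g x) = x :=
  Equiv.symm_apply_apply g x

/-- The group generated by the four permutations. -/
def K : Subgroup (Equiv.Perm (Fin 63)) := Subgroup.closure (Set.range sigP)

theorem sigP_mem (l : Fin 4) : sigP l ∈ K := Subgroup.subset_closure ⟨l, rfl⟩

/-- The neighbours of a point. -/
def nb (i : Fin 63) : List (Fin 63) := (nbrT.getD i.val []).map mkPt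

theorem nb_symm : ∀ i j : Fin 63, j ∈ nb i → i ∈ nb j := by decide +kernel

theorem nb_nodup : ∀ i : Fin 63, (nb i).Nodup := by decide +kernel

theorem nb_sigF : ∀ l : Fin 4, ∀ i : Fin 63, ∀ j ∈ nb i, sigF l j ∈ nb (sigF l i) := by
  decide +kernel

theorem mem_nb_iff {g : Equiv.Perm (Fin 63)} (hg : g ∈ K) :
    ∀ i j : Fin 63, g j ∈ nb (g i) ↔ j ∈ nb i := by
  induction hg using Subgroup.closure_induction with
  | mem g hg =>
    obtain ⟨l, rfl⟩ := hg
    intro i j
    refine ⟨fun h => ?_, nb_sigF l i j⟩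
    have h' := nb_sigF l _ _ h
    change sigF l (sigF l j) ∈ nb (sigF l (sigF l i)) at h'
    rwa [sigF_invol, sigF_invol] at h'
  | one => exact fun _ _ => Iff.rfl
  | mul g h _ _ ihg ihh => exact fun i j => (ihg (h i) (h j)).trans (ihh i j)
  | inv g _ ih =>
    intro i j
    have h' := ih (g⁻¹ i) (g⁻¹ j)
    rw [papply, papply] at h'
    exact h'.symm

theorem tree_ok : ∀ i : Fin 63, i = 0 ∨
    (((treeT.getD (mkPt ((treeT.getD i.val []).getD 0 0)).val []).getD 2 0 < (treeT.getD i.val []).getD 2 0) ∧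
      ∃ l : Fin 4, sigF l (mkPt ((treeT.getD i.val []).getD 0 0)) = i) := by
  decide +kernel

theorem transitive (i : Fin 63) : ∃ g ∈ K, g 0 = i := by
  suffices ∀ (n : ℕ) (i : Fin 63), (treeT.getD i.val []).getD 2 0 ≤ n → ∃ g ∈ K, g 0 = i from
    this _ i le_rfl
  intro n
  induction n with
  | zero =>
    intro i hi
    rcases tree_ok i with rfl | ⟨h, -⟩
    · exact ⟨1, one_mem _, rfl⟩
    · omega
  | succ n ih =>
    intro i hi
    rcases tree_ok i with rfl | ⟨h, l, hl⟩
    · exact ⟨1, one_mem _, rfl⟩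
    · obtain ⟨g, hg, hg0⟩ := ih (mkPt ((treeT.getD i.val []).getD 0 0)) (by omega)
      exact ⟨sigP l * g, mul_mem (sigP_mem l) hg, by
        rw [Equiv.Perm.mul_apply, hg0]; exact hl⟩

/-- The permutation given by a word. -/
def wp (w : List Nat) : Equiv.Perm (Fin 63) :=
  (w.map fun l => sigP ⟨l % 4, Nat.mod_lt _ (by norm_num)⟩).prod

theorem wp_mem (w : List Nat) : wp w ∈ K :=
  list_prod_mem fun g hg => by
    obtain ⟨l, -, rfl⟩ := List.mem_map.mp hg
    exact sigP_mem _

/-- The representatives of the four suborbits. -/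
def rep : Fin 4 → Fin 63 := ![0, 1, 2, 26]

theorem stab_fix : ∀ s : Fin 2, wp (wordT.getD s.val []) 0 = 0 := by decide +kernel

theorem stab_ok : ∀ i : Fin 63, (∃ k, rep k = i) ∨
    (((stabT.getD (mkPt ((stabT.getD i.val []).getD 0 0)).val []).getD 2 0 < (stabT.getD i.val []).getD 2 0) ∧
      ∃ s : Fin 2, wp (wordT.getD s.val []) (mkPt ((stabT.getD i.val []).getD 0 0)) = i) := by
  decide +kernel

theorem suborbit (i : Fin 63) : ∃ g ∈ K, g 0 = 0 ∧ ∃ k, g (rep k) = i := by
  suffices ∀ (n : ℕ) (i : Fin 63), (stabT.getD i.val []).getD 2 0 ≤ n →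
      ∃ g ∈ K, g 0 = 0 ∧ ∃ k, g (rep k) = i from this _ i le_rfl
  intro n
  induction n with
  | zero =>
    intro i hi
    rcases stab_ok i with ⟨k, hk⟩ | ⟨h, -⟩
    · exact ⟨1, one_mem _, rfl, k, hk⟩
    · omega
  | succ n ih =>
    intro i hi
    rcases stab_ok i with ⟨k, hk⟩ | ⟨h, s, hs⟩
    · exact ⟨1, one_mem _, rfl, k, hk⟩
    · obtain ⟨g, hg, hg0, k, hk⟩ := ih (mkPt ((stabT.getD i.val []).getD 0 0)) (by omega)
      exact ⟨wp (wordT.getD s.val []) * g, mul_mem (wp_mem _) hg, by
        rw [Equiv.Perm.mul_apply, hg0, stab_fix], k, by rw [Equiv.Perm.mul_apply, hk, hs]⟩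

theorem card_pair_orbits :
    Nat.card (MulAction.orbitRel.Quotient K (Fin 63 × Fin 63)) ≤ 4 := by
  have hsurj : Function.Surjective
      (fun k : Fin 4 => (Quotient.mk'' ((0 : Fin 63), rep k) :
        MulAction.orbitRel.Quotient K (Fin 63 × Fin 63))) := by
    intro q
    induction q using Quotient.inductionOn' with
    | h p =>
      obtain ⟨i, j⟩ := p
      obtain ⟨t, ht, ht0⟩ := transitive i
      obtain ⟨g, hg, hg0, k, hk⟩ := suborbit (t⁻¹ j)
      refine ⟨k, Quotient.sound' ?_⟩
      rw [MulAction.orbitRel_apply]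
      refine ⟨(⟨t * g, mul_mem ht hg⟩ : K)⁻¹, ?_⟩
      rw [inv_smul_eq_iff]
      refine Prod.ext ?_ ?_
      · show i = (t * g) 0
        rw [Equiv.Perm.mul_apply, hg0, ht0]
      · show j = (t * g) (rep k)
        rw [Equiv.Perm.mul_apply, hk, papply]
  simpa using Nat.card_le_card_of_surjective _ hsurj

/-- The adjacency matrix. -/
noncomputable def adjM : Matrix (Fin 63) (Fin 63) ℂ :=
  Matrix.of fun i j => if j ∈ nb i then 1 else 0

/-- Invariance of a matrix under the group. -/
def Invariant (M : Matrix (Fin 63) (Fin 63) ℂ) : Prop :=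
  ∀ g ∈ K, ∀ i j : Fin 63, M (g i) (g j) = M i j

theorem invariant_iff_comm {M : Matrix (Fin 63) (Fin 63) ℂ} :
    Invariant M ↔ ∀ g ∈ K, M.submatrix g g = M :=
  ⟨fun h g hg => Matrix.ext (h g hg), fun h g hg i j => congrFun (congrFun (h g hg) i) j⟩

theorem invariant_aeval (f : ℤ[X]) : Invariant (aeval adjM f) := by
  induction f using Polynomial.induction_on' with
  | add f g hf hg =>
    intro s hs i j
    simp only [map_add, Matrix.add_apply, hf s hs, hg s hs]
  | monomial n a =>
    have hpow : ∀ n : ℕ, Invariant (adjM ^ n) := by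
      intro n
      induction n with
      | zero =>
        intro s _ i j
        simp [Matrix.one_apply]
      | succ n ih =>
        intro s hs i j
        rw [pow_succ, Matrix.mul_apply, Matrix.mul_apply]
        refine (Fintype.sum_equiv s _ _ fun k => ?_).symm
        rw [ih s hs]
        congr 1
        simp only [adjM, Matrix.of_apply]
        exact if_congr (mem_nb_iff hs k j).symm rfl rfl
    intro s hs i j
    rw [aeval_monomial, ← Algebra.smul_def, Matrix.smul_apply, Matrix.smul_apply, hpow n s hs]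

/-- Row zero of the powers of the adjacency matrix. -/
def walks : ℕ → Fin 63 → ℤ
  | 0, j => if j = 0 then 1 else 0
  | n + 1, j => ((nb j).map (walks n)).sum

theorem pow_row (n : ℕ) : ∀ j, (adjM ^ n) 0 j = (walks n j : ℂ) := by
  induction n with
  | zero =>
    intro j
    simp only [walks, pow_zero, Matrix.one_apply, eq_comm (a := (0 : Fin 63))]
    split_ifs <;> simp
  | succ n ih =>
    intro j
    rw [pow_succ, Matrix.mul_apply, walks, ← List.sum_toFinset _ (nb_nodup j), Int.cast_sum]
    simp only [adjM, Matrix.of_apply, mul_ite, mul_one, mul_zero]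
    rw [← Finset.sum_filter]
    refine Finset.sum_congr (Finset.ext fun k => ?_) fun k _ => by rw [← ih k]; rfl
    simp only [Finset.mem_filter, Finset.mem_univ, true_and, List.mem_toFinset]
    exact ⟨fun h => nb_symm k j h, fun h => nb_symm j k h⟩

theorem eq_of_row {M : Matrix (Fin 63) (Fin 63) ℂ} (hM : Invariant M) (h : ∀ j, M 0 j = 0) :
    M = 0 := by
  refine Matrix.ext fun i j => ?_
  obtain ⟨g, hg, rfl⟩ := transitive i
  have h' := hM g hg 0 (g⁻¹ j)
  rw [papply] at h'
  rw [h', h, Matrix.zero_apply]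

theorem min_poly :
    aeval adjM (X ^ 4 - 5 * X ^ 3 - 15 * X ^ 2 + 45 * X + 54 : ℤ[X]) = 0 := by
  refine eq_of_row (invariant_aeval _) fun j => ?_
  have h : ∀ j : Fin 63, walks 4 j - 5 * walks 3 j - 15 * walks 2 j + 45 * walks 1 j +
      54 * walks 0 j = 0 := by decide +kernel
  have h' := congrArg (Int.cast : ℤ → ℂ) (h j)
  push_cast at h'
  simp only [map_add, map_sub, map_mul, map_pow, aeval_X, map_ofNat]
  have hz : ∀ c : ℕ, [c.AtLeastTwo] → ((OfNat.ofNat c : Matrix (Fin 63) (Fin 63) ℂ)) =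
      (OfNat.ofNat c : ℂ) • (1 : Matrix (Fin 63) (Fin 63) ℂ) := fun c _ => by
    rw [← Algebra.algebraMap_eq_smul_one, map_ofNat]
  simp only [hz, Matrix.smul_mul, one_mul, Matrix.add_apply, Matrix.sub_apply, Matrix.smul_apply,
    smul_eq_mul, pow_row]
  rw [← pow_one adjM, pow_row, show (1 : Matrix (Fin 63) (Fin 63) ℂ) = adjM ^ 0 from (pow_zero _).symm,
    pow_row]
  linear_combination h'

/-- Numerators of the projections. -/
noncomputable def num : Fin 4 → ℤ[X] :=
  ![X ^ 3 + X ^ 2 - 9 * X - 9, X ^ 3 - 2 * X ^ 2 - 21 * X - 18, X ^ 3 - 6 * X ^ 2 - 9 * X + 54,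
    X ^ 3 - 8 * X ^ 2 + 9 * X + 18]

/-- Denominators of the projections. -/
def den : Fin 4 → ℤ := ![189, -72, 56, -108]

theorem den_ne : ∀ t, den t ≠ 0 := by decide

/-- The projection to an eigenspace. -/
noncomputable def proj (t : Fin 4) : Matrix (Fin 63) (Fin 63) ℂ :=
  (den t : ℂ)⁻¹ • aeval adjM (num t)

theorem num_sq (t : Fin 4) :
    aeval adjM (num t) * aeval adjM (num t) = (den t : ℂ) • aeval adjM (num t) := by
  obtain ⟨q, hq⟩ : ∃ q : ℤ[X], num t * num t - C (den t) * num t =
      (X ^ 4 - 5 * X ^ 3 - 15 * X ^ 2 + 45 * X + 54) * q := by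
    fin_cases t
    · exact ⟨X ^ 2 + 7 * X + 33, by simp [num, den]; ring⟩
    · exact ⟨X ^ 2 + X - 18, by simp [num, den]; ring⟩
    · exact ⟨X ^ 2 - 7 * X - 2, by simp [num, den]; ring⟩
    · exact ⟨X ^ 2 - 11 * X + 42, by simp [num, den]; ring⟩
  have h := congrArg (aeval adjM) hq
  rw [map_sub, map_mul, map_mul, map_mul, min_poly, zero_mul, sub_eq_zero, aeval_C,
    eq_intCast] at h
  rw [h, Int.cast_smul_eq_zsmul, zsmul_eq_mul]

theorem proj_idem (t : Fin 4) : proj t * proj t = proj t := by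
  have : (den t : ℂ) ≠ 0 := Int.cast_ne_zero.mpr (den_ne t)
  rw [proj, Matrix.smul_mul, Matrix.mul_smul, num_sq, smul_smul, smul_smul]
  congr 1
  field_simp

theorem sum_proj : ∑ t, proj t = 1 := by
  have h := congrArg (aeval adjM) (show (8 : ℤ[X]) * num 0 - 21 * num 1 + 27 * num 2 - 14 * num 3
    = 1512 by simp [num]; ring)
  simp only [map_add, map_sub, map_mul, map_ofNat] at h
  have hz : ∀ c : ℕ, [c.AtLeastTwo] → ((OfNat.ofNat c : Matrix (Fin 63) (Fin 63) ℂ)) =
      (OfNat.ofNat c : ℂ) • (1 : Matrix (Fin 63) (Fin 63) ℂ) := fun c _ => by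
    rw [← Algebra.algebraMap_eq_smul_one, map_ofNat]
  simp only [hz, Matrix.smul_mul, one_mul] at h
  have h' := congrArg (fun M => (1512 : ℂ)⁻¹ • M) h
  simp only [smul_add, smul_sub, smul_smul] at h'
  rw [inv_mul_cancel₀ (by norm_num : (1512 : ℂ) ≠ 0), one_smul] at h'
  rw [← h', Fin.sum_univ_four]
  simp [proj, den]
  module

theorem invariant_proj (t : Fin 4) : Invariant (proj t) := fun g hg i j => by
  simp only [proj, Matrix.smul_apply, invariant_aeval (num t) g hg]

/-- The degree of each constituent. -/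
def mult : Fin 4 → ℕ := ![1, 21, 27, 14]

theorem trace_proj (t : Fin 4) : ∑ i, proj t i i = (mult t : ℂ) := by
  have h0 : ∀ i, proj t i i = proj t 0 0 := by
    intro i
    obtain ⟨g, hg, rfl⟩ := transitive i
    exact invariant_proj t g hg 0 0
  rw [Finset.sum_congr rfl fun i _ => h0 i, Finset.sum_const, Finset.card_univ, Fintype.card_fin,
    nsmul_eq_mul]
  have w : ((walks 0 0 = 1 ∧ walks 1 0 = 0) ∧ walks 2 0 = 6) ∧ walks 3 0 = 6 := by decide +kernel
  have hz : ∀ c : ℕ, [c.AtLeastTwo] → ((OfNat.ofNat c : Matrix (Fin 63) (Fin 63) ℂ)) =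
      (OfNat.ofNat c : ℂ) • (1 : Matrix (Fin 63) (Fin 63) ℂ) := fun c _ => by
    rw [← Algebra.algebraMap_eq_smul_one, map_ofNat]
  have r1 : adjM 0 0 = 0 := by
    have := pow_row 1 0
    rw [pow_one, w.1.1.2, Int.cast_zero] at this
    exact this
  fin_cases t <;>
  · simp [proj, num, den, mult, map_ofNat, hz, Matrix.add_apply, Matrix.sub_apply,
      Matrix.smul_apply, pow_row, w.1.2, w.2, r1]
    norm_num

/-- The character of a constituent. -/
noncomputable def chi (t : Fin 4) : K → ℂ := fun g => ∑ i, proj t i ((g : Equiv.Perm (Fin 63)) i)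

/-- The permutation representation. -/
noncomputable def permRep : Representation ℂ K (Fin 63 → ℂ) where
  toFun g := LinearMap.funLeft ℂ ℂ ⇑((g : Equiv.Perm (Fin 63))⁻¹)
  map_one' := by ext; simp
  map_mul' g h := by ext; simp [LinearMap.funLeft]

theorem permRep_apply (g : K) (f : Fin 63 → ℂ) (i : Fin 63) :
    permRep g f i = f ((g : Equiv.Perm (Fin 63))⁻¹ i) := rfl

theorem isCharacter_chi (t : Fin 4) : Cfsg.IsCharacter K (chi t) := by
  set E : (Fin 63 → ℂ) →ₗ[ℂ] (Fin 63 → ℂ) := Matrix.toLin' (proj t) with hE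
  have hcomm : ∀ (g : K) (f : Fin 63 → ℂ), E (permRep g f) = permRep g (E f) := by
    intro g f
    ext i
    simp only [hE, Matrix.toLin'_apply, Matrix.mulVec, dotProduct, permRep_apply]
    refine Fintype.sum_equiv ((g : Equiv.Perm (Fin 63))⁻¹) _ _ fun j => ?_
    have h := invariant_proj t _ g.2 ((g : Equiv.Perm (Fin 63))⁻¹ i) ((g : Equiv.Perm (Fin 63))⁻¹ j)
    rw [papply, papply] at h
    rw [h]
  have hidem : ∀ f, E (E f) = E f := fun f => by
    rw [hE, ← LinearMap.comp_apply, ← Matrix.toLin'_mul, proj_idem]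
  let σ : Representation ℂ K (LinearMap.range E) :=
    { toFun := fun g => (permRep g).restrict (p := LinearMap.range E) (q := LinearMap.range E)
        (by rintro _ ⟨f, rfl⟩; exact ⟨permRep g f, hcomm g f⟩)
      map_one' := by ext x; simp
      map_mul' := fun g h => by ext x; simp }
  convert isCharacter_character σ using 1
  ext g
  have hmem : ∀ f, ((permRep g) ∘ₗ E) f ∈ LinearMap.range E := fun f => ⟨permRep g f, hcomm g f⟩
  have hres : σ g = ((permRep g) ∘ₗ E).restrict (fun x _ => hmem x) := by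
    refine LinearMap.ext fun x => Subtype.ext ?_
    obtain ⟨_, f, rfl⟩ := x
    show permRep g (E f) = permRep g (E (E f))
    rw [hidem]
  rw [Representation.character, hres, LinearMap.trace_restrict_eq_of_forall_mem _ _ hmem,
    LinearMap.trace_eq_matrix_trace ℂ (Pi.basisFun ℂ (Fin 63))]
  simp only [Matrix.trace, Matrix.diag, LinearMap.toMatrix_apply, Pi.basisFun_apply,
    Pi.basisFun_repr, LinearMap.comp_apply, permRep_apply, hE, Matrix.toLin'_apply,
    Matrix.mulVec_single_one, Matrix.col_apply, chi]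
  refine Fintype.sum_equiv (g : Equiv.Perm (Fin 63)) _ _ fun i => ?_
  have h := invariant_proj t _ g.2 ((g : Equiv.Perm (Fin 63))⁻¹ ((g : Equiv.Perm (Fin 63)) i)) i
  rw [papply'] at h ⊢

theorem chi_one (t : Fin 4) : chi t 1 = (mult t : ℂ) := trace_proj t

theorem isIrr_chi (t : Fin 4) : Cfsg.IsIrrCharacter K (chi t) := by
  classical
  haveI : Fintype K := Fintype.ofFinite _
  refine IsCharacter.isIrrCharacter_of_classInner_self (isCharacter_chi t) ?_
  have hsum : ∀ g : K, ∑ s, chi s g =
      ((Finset.univ.filter fun i => (g : Equiv.Perm (Fin 63)) i = i).card : ℂ) := by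
    intro g
    simp only [chi]
    rw [Finset.sum_comm]
    simp only [← Matrix.sum_apply, sum_proj, Matrix.one_apply]
    rw [Finset.sum_boole]
    congr 2
    ext i
    simp [eq_comm]
  choose m hm using fun a b : Fin 4 =>
    IsCharacter.exists_classInner_eq_natCast' (isCharacter_chi a) (isCharacter_chi b)
  have hpos : ∀ a, 1 ≤ m a a := by
    intro a
    by_contra hc
    have h0 := congrFun (classInner_self_eq_zero (φ := chi a)
      (by rw [hm a a, show m a a = 0 by omega, Nat.cast_zero])) 1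
    rw [chi_one, Pi.zero_apply, Nat.cast_eq_zero] at h0
    revert h0
    revert a
    intro a _ h0
    fin_cases a <;> simp [mult] at h0
  have htot : ((∑ a, ∑ b, m a b : ℕ) : ℂ) =
      (Nat.card (MulAction.orbitRel.Quotient K (Fin 63 × Fin 63)) : ℂ) := by
    push_cast
    simp only [← hm, classInner_def]
    rw [Finset.sum_congr rfl fun a _ => (Finset.mul_sum _ _ _).symm, ← Finset.mul_sum]
    rw [Finset.sum_congr rfl fun a _ => Finset.sum_comm, Finset.sum_comm]
    simp only [← Finset.mul_sum, ← map_sum, ← Finset.sum_mul, hsum, map_natCast, ← Nat.cast_mul,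
      ← Nat.cast_sum]
    haveI : Fintype (MulAction.orbitRel.Quotient K (Fin 63 × Fin 63)) := Fintype.ofFinite _
    have hb := MulAction.sum_card_fixedBy_eq_card_orbits_mul_card_group K (Fin 63 × Fin 63)
    have hfix : ∀ g : K, Fintype.card (MulAction.fixedBy (Fin 63 × Fin 63) g) =
        (Finset.univ.filter fun i => (g : Equiv.Perm (Fin 63)) i = i).card *
        (Finset.univ.filter fun i => (g : Equiv.Perm (Fin 63)) i = i).card := by
      intro g
      rw [← Finset.card_product, ← Set.toFinset_card]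
      congr 1
      ext p
      simp [Prod.ext_iff, Subgroup.smul_def]
    rw [Finset.sum_congr rfl fun g _ => hfix g] at hb
    rw [hb, Nat.card_eq_fintype_card, Nat.card_eq_fintype_card]
    push_cast
    field_simp
  have hle : ∑ a, ∑ b, m a b ≤ 4 := (Nat.cast_inj.mp htot).le.trans card_pair_orbits
  have hdiag : ∀ a, m a a ≤ ∑ b, m a b := fun a =>
    Finset.single_le_sum (fun _ _ => Nat.zero_le _) (Finset.mem_univ a)
  simp only [Fin.sum_univ_four] at hle hdiag
  have h0 := hdiag 0
  have h1 := hdiag 1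
  have h2 := hdiag 2
  have h3 := hdiag 3
  have p0 := hpos 0
  have p1 := hpos 1
  have p2 := hpos 2
  have p3 := hpos 3
  have : m t t = 1 := by
    rcases (by decide : ∀ t : Fin 4, t = 0 ∨ t = 1 ∨ t = 2 ∨ t = 3) t with rfl | rfl | rfl | rfl <;>
      omega
  rw [hm t t, this, Nat.cast_one]

/-- Degrees 14 and 21 occur. -/
theorem exists_degree_fourteen_twentyone :
    (∃ χ : K → ℂ, Cfsg.IsIrrCharacter K χ ∧ χ 1 = 14) ∧
      ∃ χ : K → ℂ, Cfsg.IsIrrCharacter K χ ∧ χ 1 = 21 :=
  ⟨⟨chi 3, isIrr_chi 3, by rw [chi_one]; simp [mult]⟩,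
    ⟨chi 1, isIrr_chi 1, by rw [chi_one]; simp [mult]⟩⟩

end CfsgLib.U33Deg
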