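import Cfsg.Agent.J2.Perm.U33
import Cfsg.Agent.U33Degrees.Points

/-!
# From `PSU(3,3)` over any field with nine elements to the group on 63 points
-/

set_option autoImplicit false
set_option maxRecDepth 100000

namespace CfsgLib.U33Deg

open CfsgLib.Coset CfsgLib.J2.Perm
open scoped Matrix

section Field

variable {F F' : Type*} [Field F] [Field F'] {n q : ℕ}

theorem map_mem_SU (e : F ≃+* F') (g : Cfsg.SU n F q) :
    Matrix.SpecialLinearGroup.map (e : F →+* F') g.1 ∈ Cfsg.SU n F' q := by
  intro u v
  have key : ∀ w : Fin n → F', (Cfsg.slToMat n F')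
      (Matrix.SpecialLinearGroup.map (e : F →+* F') g.1) *ᵥ w =
        fun i => e ((Cfsg.slToMat n F g.1 *ᵥ fun j => e.symm (w j)) i) := by
    intro w
    funext i
    simp only [Matrix.mulVec, dotProduct, map_sum, map_mul, RingEquiv.apply_symm_apply]
    rfl
  have hform : ∀ a b : Fin n → F,
      Cfsg.hermForm n F' q (fun i => e (a i)) (fun i => e (b i)) = e (Cfsg.hermForm n F q a b) := by
    intro a b
    simp only [Cfsg.hermForm, map_sum, map_mul, map_pow]
  rw [key u, key v, hform, g.2, ← hform]
  simp only [RingEquiv.apply_symm_apply]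

/-- Transport of the special unitary group along a field isomorphism. -/
def suCongr (e : F ≃+* F') : Cfsg.SU n F q ≃* Cfsg.SU n F' q where
  toFun g := ⟨_, map_mem_SU e g⟩
  invFun g := ⟨_, map_mem_SU e.symm g⟩
  left_inv g := by
    apply Subtype.ext
    apply Matrix.SpecialLinearGroup.ext
    intro i j
    exact e.symm_apply_apply _
  right_inv g := by
    apply Subtype.ext
    apply Matrix.SpecialLinearGroup.ext
    intro i j
    exact e.apply_symm_apply _
  map_mul' a b := Subtype.ext (map_mul (Matrix.SpecialLinearGroup.map (e : F →+* F')) a.1 b.1)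

/-- Transport of the projective special unitary group along a field isomorphism. -/
noncomputable def psuCongr (e : F ≃+* F') : Cfsg.PSU n F q ≃* Cfsg.PSU n F' q :=
  QuotientGroup.congr _ _ (suCongr e) (by
    ext x
    rw [Subgroup.mem_map]
    constructor
    · rintro ⟨z, hz, rfl⟩
      refine Subgroup.mem_center_iff.mpr fun g => ?_
      obtain ⟨g, rfl⟩ := (suCongr (n := n) (q := q) e).surjective g
      change suCongr e g * suCongr e z = suCongr e z * suCongr e g
      rw [← map_mul, ← map_mul, Subgroup.mem_center_iff.mp hz g]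
    · intro hx
      refine ⟨(suCongr e).symm x, Subgroup.mem_center_iff.mpr fun g => ?_,
        (suCongr e).apply_symm_apply x⟩
      apply (suCongr (n := n) (q := q) e).injective
      rw [map_mul, map_mul, MulEquiv.apply_symm_apply]
      exact Subgroup.mem_center_iff.mp hx _)

end Field

theorem gen_check : ∀ l : Fin 4, ∀ j : Fin 63,
    tget Tb (uPts.getD j.val 0) l.val = uPts.getD (sigF l j).val 0 := by decide +kernel

theorem exists_perm {x : P} (hx : x ∈ H) :
    ∃ τ : Equiv.Perm (Fin 63), τ ∈ K ∧ ∀ j, ρ x (pt j) = pt (τ j) := by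
  rw [CfsgLib.J2.Perm.H, genBy] at hx
  induction hx using Subgroup.closure_induction with
  | mem y hy =>
    obtain ⟨l, rfl⟩ : ∃ l : Fin 4, fl Lp l.val = y := by
      simp only [Set.mem_setOf_eq, lv, List.map_cons, List.map_nil, List.mem_cons,
        List.not_mem_nil, or_false] at hy
      rcases hy with rfl | rfl | rfl | rfl
      exacts [⟨0, rfl⟩, ⟨1, rfl⟩, ⟨2, rfl⟩, ⟨3, rfl⟩]
    refine ⟨sigP l, sigP_mem l, fun j => ?_⟩
    have h := matches_ρ l.val (by rw [len_Lp]; omega) (pt (sigF l j))
    have h2 : tget Tb (uPts.getD (sigF l j).val 0) l.val = uPts.getD j.val 0 := by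
      rw [gen_check, sigF_invol]
    have h' : (ρ (fl Lp l.val))⁻¹ (pt (sigF l j)) = pt j := Fin.ext (h.trans h2)
    rw [Equiv.Perm.inv_def, Equiv.symm_apply_eq] at h'
    exact h'.symm
  | one => exact ⟨1, one_mem _, fun j => by simp⟩
  | mul a b _ _ iha ihb =>
    obtain ⟨s, hs, hs'⟩ := iha
    obtain ⟨t, ht, ht'⟩ := ihb
    exact ⟨s * t, mul_mem hs ht, fun j => by
      rw [map_mul, Equiv.Perm.mul_apply, ht', hs', Equiv.Perm.mul_apply]⟩
  | inv a _ iha =>
    obtain ⟨s, hs, hs'⟩ := iha
    refine ⟨s⁻¹, inv_mem hs, fun j => ?_⟩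
    rw [map_inv, Equiv.Perm.inv_def, Equiv.symm_apply_eq, hs', papply]

/-- The action of the subgroup on the 63 points. -/
noncomputable def toK : H →* K :=
  MonoidHom.mk' (fun h => ⟨(exists_perm h.2).choose, (exists_perm h.2).choose_spec.1⟩) fun a b => by
    refine Subtype.ext (Equiv.ext fun j => pt_injective ?_)
    rw [← (exists_perm (a * b).2).choose_spec.2, Subgroup.coe_mul, map_mul, Equiv.Perm.mul_apply,
      (exists_perm b.2).choose_spec.2, (exists_perm a.2).choose_spec.2]
    rfl

theorem toK_apply (h : H) (j : Fin 63) :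
    pt ((toK h : Equiv.Perm (Fin 63)) j) = ρ (h : P) (pt j) :=
  ((exists_perm h.2).choose_spec.2 j).symm

theorem toK_surjective : Function.Surjective toK := by
  have hle : K ≤ toK.range.map K.subtype := by
    refine (Subgroup.closure_le _).mpr ?_
    rintro _ ⟨l, rfl⟩
    have hm : fl Lp l.val ∈ H := Subgroup.subset_closure (by
      fin_cases l <;> simp [lv])
    refine ⟨toK ⟨_, hm⟩, ⟨_, rfl⟩, Equiv.ext fun j => pt_injective ?_⟩
    refine (toK_apply _ j).trans ?_
    have h := matches_ρ l.val (by rw [len_Lp]; omega) (pt (sigF l j))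
    have h2 : tget Tb (uPts.getD (sigF l j).val 0) l.val = uPts.getD j.val 0 := by
      rw [gen_check, sigF_invol]
    have h' : (ρ (fl Lp l.val))⁻¹ (pt (sigF l j)) = pt j := Fin.ext (h.trans h2)
    rw [Equiv.Perm.inv_def, Equiv.symm_apply_eq] at h'
    exact h'.symm
  intro k
  obtain ⟨y, ⟨h, rfl⟩, hy⟩ := hle k.2
  exact ⟨h, Subtype.ext hy⟩

/-- A surjection from `PSU(3,3)` over a field of nine elements to the group on 63 points. -/
theorem exists_surjection {F : Type*} [Field F] [Fintype F] (hF : Fintype.card F = 9) :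
    ∃ f : Cfsg.PSU 3 F 3 →* K, Function.Surjective f := by
  have e : F ≃+* F9 := FiniteField.ringEquivOfCardEq (hF.trans F9.card.symm)
  obtain ⟨θ⟩ := CfsgLib.J2.Perm.nonempty_psu
  exact ⟨toK.comp ((psuCongr e).trans θ.symm).toMonoidHom,
    toK_surjective.comp ((psuCongr e).trans θ.symm).surjective⟩

end CfsgLib.U33Deg
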