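import Cfsg.Prelude.Def_DegreeGraph
import Cfsg.Agent.Char.CoprimeComplement
import Cfsg.Agent.Char.Central
import Mathlib.Tactic.NormNum.Prime

/-!
# Degree graphs of groups of order 6048 with a complete graph
-/

set_option autoImplicit false
set_option linter.style.haveILetI false

namespace CfsgLib.U33Deg

open CfsgLib.Char

/-- A group of order 6048 with degrees divisible by 6, 14 and 21 has the complete degree graph
on the three primes. -/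
theorem graph_eq_complete {G : Type*} [Group G] [Finite G] (hG : Nat.card G = 6048)
    (h6 : ∃ (χ : G → ℂ) (d : ℕ), Cfsg.IsIrrCharacter G χ ∧ χ 1 = d ∧ 6 ∣ d)
    (h14 : ∃ (χ : G → ℂ) (d : ℕ), Cfsg.IsIrrCharacter G χ ∧ χ 1 = d ∧ 14 ∣ d)
    (h21 : ∃ (χ : G → ℂ) (d : ℕ), Cfsg.IsIrrCharacter G χ ∧ χ 1 = d ∧ 21 ∣ d) :
    Cfsg.degreePrimes G = ({2, 3, 7} : Set ℕ) ∧
      ∀ p q, (Cfsg.degreeGraph G).Adj p q ↔
        (p ≠ q ∧ p ∈ ({2, 3, 7} : Set ℕ) ∧ q ∈ ({2, 3, 7} : Set ℕ)) := by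
  haveI := Fintype.ofFinite G
  have mem : ∀ {n : ℕ}, (∃ (χ : G → ℂ) (d : ℕ), Cfsg.IsIrrCharacter G χ ∧ χ 1 = d ∧ n ∣ d) →
      ∀ m, m ∣ n → ∃ d ∈ Cfsg.charDegrees G, m ∣ d := by
    rintro n ⟨χ, d, hχ, hd, hn⟩ m hm
    exact ⟨d, ⟨⟨χ, hχ⟩, charDegree_eq_natCast hd⟩, hm.trans hn⟩
  have prime_mem : ∀ p : ℕ, p.Prime → ∀ d ∈ Cfsg.charDegrees G, p ∣ d → p ∈ ({2, 3, 7} : Set ℕ) := by
    rintro p hp d ⟨⟨χ, hχ⟩, rfl⟩ hpd
    obtain ⟨n, -, hn⟩ := IsIrrCharacter.exists_degree hχ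
    rw [charDegree_eq_natCast hn] at hpd
    have hdvd : p ∣ 2 ^ 5 * 3 ^ 3 * 7 :=
      hpd.trans ((IsIrrCharacter.degree_dvd_card hχ hn).trans (dvd_of_eq hG))
    rcases (Nat.Prime.dvd_mul hp).mp hdvd with h | h
    · rcases (Nat.Prime.dvd_mul hp).mp h with h | h
      · exact Or.inl ((Nat.prime_dvd_prime_iff_eq hp Nat.prime_two).mp (hp.dvd_of_dvd_pow h))
      · exact Or.inr (Or.inl ((Nat.prime_dvd_prime_iff_eq hp Nat.prime_three).mp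
          (hp.dvd_of_dvd_pow h)))
    · exact Or.inr (Or.inr ((Nat.prime_dvd_prime_iff_eq hp (by norm_num)).mp h))
  have edge : ∀ m, m ∣ 6 ∨ m ∣ 14 ∨ m ∣ 21 → ∃ d ∈ Cfsg.charDegrees G, m ∣ d := by
    rintro m (h | h | h)
    exacts [mem h6 m h, mem h14 m h, mem h21 m h]
  refine ⟨Set.ext fun p => ⟨fun ⟨hp, d, hd, hpd⟩ => prime_mem p hp d hd hpd, ?_⟩, fun p q => ⟨?_, ?_⟩⟩
  · rintro (rfl | rfl | rfl)
    · exact ⟨Nat.prime_two, mem h6 2 (by norm_num)⟩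
    · exact ⟨Nat.prime_three, mem h6 3 (by norm_num)⟩
    · exact ⟨by norm_num, mem h14 7 (by norm_num)⟩
  · rintro ⟨hne, hp, hq, d, hd, hdvd⟩
    exact ⟨hne, prime_mem p hp d hd ((Nat.dvd_mul_right p q).trans hdvd),
      prime_mem q hq d hd ((Nat.dvd_mul_left q p).trans hdvd)⟩
  · rintro ⟨hne, rfl | rfl | rfl, rfl | rfl | rfl⟩ <;>
      first
      | exact absurd rfl hne
      | exact ⟨hne, by norm_num, by norm_num, edge _ (by norm_num)⟩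

end CfsgLib.U33Deg
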