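import Cfsg.Agent.SmallSimple.ColumnData

/-!
# A degree divisible by six from the column of an element of order seven

For a simple group of order 6048 without elements of order 14 or 21 the orthogonality
relations at an element of order seven force a character degree divisible by six.
-/

set_option autoImplicit false
set_option linter.style.haveILetI false

namespace CfsgLib.U33Deg

open Finset CfsgLib.Char CfsgLib.ColumnData
open scoped ComplexConjugate

instance factSeven : Fact (Nat.Prime 7) := ⟨by norm_num⟩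

theorem univ_seven : (Finset.univ : Finset (ZMod 7)) = {0, 1, 2, 3, 4, 5, 6} := by decide

theorem one_ne_zero_seven : (1 : ZMod 7) ≠ 0 := by decide

theorem two_ne_zero_seven : (2 : ZMod 7) ≠ 0 := by decide

theorem cube_roots : ∀ r : ZMod 7, r ^ 3 = 1 → r ≠ 1 → r = 2 ∨ r ^ 2 = 2 := by decide

section Group

variable {G : Type*} [Group G] [Finite G]

theorem centralizer_seven (hG : Nat.card G = 6048) (h14 : ∀ g : G, orderOf g ≠ 14)
    (h21 : ∀ g : G, orderOf g ≠ 21) {x : G} (hx : orderOf x = 7) :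
    Nat.card (Subgroup.centralizer ({x} : Set G)) = 7 := by
  set C := Subgroup.centralizer ({x} : Set G)
  have hxC : x ∈ C := Subgroup.mem_centralizer_singleton_iff.mpr rfl
  have h7 : 7 ∣ Nat.card C := by
    rw [← hx, ← Nat.card_zpowers]
    exact Subgroup.card_dvd_of_le (Subgroup.zpowers_le.mpr hxC)
  have hno : ∀ r, r.Prime → r ≠ 7 → (∀ g : G, orderOf g ≠ 7 * r) → ¬ r ∣ Nat.card C := by
    intro r hr hr7 hno hd
    haveI := Fact.mk hr
    obtain ⟨y, hy⟩ := exists_prime_orderOf_dvd_card' r hd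
    have hc : Commute x (y : G) := (Subgroup.mem_centralizer_singleton_iff.mp y.2).symm
    refine hno (x * y) ?_
    rw [hc.orderOf_mul_eq_mul_orderOf_of_coprime, hx, Subgroup.orderOf_coe, hy]
    rw [hx, Subgroup.orderOf_coe, hy]
    exact (Nat.coprime_primes (by norm_num) hr).mpr (Ne.symm hr7)
  have h2 := hno 2 Nat.prime_two (by norm_num) h14
  have h3 := hno 3 Nat.prime_three (by norm_num) h21
  obtain ⟨k, hk⟩ := h7
  have hd : Nat.card C ∣ 6048 := hG ▸ C.card_subgroup_dvd_card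
  rw [hk, show (6048 : ℕ) = 7 * 864 from rfl, Nat.mul_dvd_mul_iff_left (by norm_num)] at hd
  by_contra hne
  have hk1 : k ≠ 1 := fun h => hne (by rw [hk, h, mul_one])
  obtain ⟨r, hr, hrk⟩ := Nat.exists_prime_and_dvd hk1
  have hr' : r ∣ 2 ^ 5 * 3 ^ 3 := hrk.trans hd
  have hrC : r ∣ Nat.card C := hk ▸ hrk.mul_left 7
  rcases (Nat.Prime.dvd_mul hr).mp hr' with h | h
  · exact h2 ((Nat.prime_dvd_prime_iff_eq hr Nat.prime_two).mp (hr.dvd_of_dvd_pow h) ▸ hrC)
  · exact h3 ((Nat.prime_dvd_prime_iff_eq hr Nat.prime_three).mp (hr.dvd_of_dvd_pow h) ▸ hrC)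

theorem seven_setup [IsSimpleGroup G] (hG : Nat.card G = 6048) (h14 : ∀ g : G, orderOf g ≠ 14)
    (h21 : ∀ g : G, orderOf g ≠ 21) :
    ∃ x : G, orderOf x = 7 ∧ Nat.card (Subgroup.centralizer ({x} : Set G)) = 7 ∧
      IsConj x (x ^ 2) ∧ ¬ IsConj x x⁻¹ := by
  obtain ⟨P⟩ : Nonempty (Sylow 7 G) := inferInstance
  have hP : Nat.card (P : Subgroup G) = 7 := by
    rw [CfsgLib.SmallSimple.card_sylow_eq P (k := 1) (m := 864) (by rw [hG]; norm_num) (by norm_num),
      pow_one]
  have hn : Nat.card (Sylow 7 G) ∈ ({8, 36, 288} : Finset ℕ) := by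
    have h3 := P.card_dvd_index
    have h4 := (P : Subgroup G).card_mul_index
    rw [hP, hG] at h4
    have hidx : (P : Subgroup G).index = 864 := by omega
    rw [hidx] at h3
    have hm : Nat.card (Sylow 7 G) % 7 = 1 := card_sylow_modEq_one 7 G
    have h1 := CfsgLib.SmallSimple.card_sylow_ne_one P (by rw [hP]; norm_num)
      (by rw [hP, hG]; norm_num)
    have key : ∀ k ∈ List.range 865, k ∣ 864 → k % 7 = 1 → k ≠ 1 →
        k ∈ ({8, 36, 288} : Finset ℕ) := by decide +kernel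
    exact key _ (List.mem_range.mpr (Nat.lt_succ_of_le (Nat.le_of_dvd (by norm_num) h3))) h3 hm h1
  haveI : IsCyclic (P : Subgroup G) := isCyclic_of_prime_card hP
  obtain ⟨x', hx'⟩ := IsCyclic.exists_ofOrder_eq_natCard (α := (P : Subgroup G))
  have hx : orderOf (x' : G) = 7 := by rw [Subgroup.orderOf_coe, hx', hP]
  set x : G := (x' : G)
  have hC := centralizer_seven hG h14 h21 hx
  have hPz : (P : Subgroup G) = Subgroup.zpowers x :=
    (Subgroup.eq_of_le_of_card_ge (Subgroup.zpowers_le.mpr x'.2)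
      (by rw [Nat.card_zpowers, hx, hP])).symm
  set N := Subgroup.normalizer ((P : Subgroup G) : Set G) with hNdef
  have hCP : Subgroup.centralizer ((P : Subgroup G) : Set G) = Subgroup.centralizer ({x} : Set G) := by
    rw [show (((P : Subgroup G) : Set G)) = ((Subgroup.zpowers x : Subgroup G) : Set G) from
      congrArg _ hPz, Subgroup.zpowers_eq_closure, Subgroup.centralizer_closure]
  have hNle : Nat.card N ∣ 42 := by
    set φ := Subgroup.normalizerMonoidHom (P : Subgroup G)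
    have h1 : Nat.card φ.ker * φ.ker.index = Nat.card N := φ.ker.card_mul_index
    have h2 : Nat.card φ.ker = 7 := by
      rw [Subgroup.normalizerMonoidHom_ker]
      refine (Nat.card_congr (Subgroup.subgroupOfEquivOfLe
        (Subgroup.centralizer_le_normalizer _)).toEquiv).trans ?_
      rw [hCP]
      exact hC
    have h3 : φ.ker.index ∣ 6 := by
      rw [Subgroup.index_ker]
      refine (Subgroup.card_subgroup_dvd_card φ.range).trans (dvd_of_eq ?_)
      rw [IsCyclic.card_mulAut, hP, Nat.totient_prime (by norm_num)]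
    rw [← h1, h2]
    exact Nat.mul_dvd_mul_left 7 h3
  have hN : Nat.card N = 21 := by
    have h := CfsgLib.SmallSimple.card_sylow_mul P
    rw [hG] at h
    change Nat.card (Sylow 7 G) * Nat.card N = 6048 at h
    have hle := Nat.le_of_dvd (by norm_num) hNle
    simp only [Finset.mem_insert, Finset.mem_singleton] at hn
    rcases hn with h' | h' | h' <;> rw [h'] at h <;> omega
  haveI : Fact (Nat.Prime 3) := ⟨Nat.prime_three⟩
  obtain ⟨h', hh'⟩ := exists_prime_orderOf_dvd_card' (G := N) 3 (by rw [hN]; norm_num)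
  set h : G := (h' : G)
  have ho : orderOf h = 3 := by rw [Subgroup.orderOf_coe, hh']
  obtain ⟨r, hr⟩ : ∃ r : ZMod 7, h * x * h⁻¹ = x ^ r.val := by
    have hm : h * x * h⁻¹ ∈ Subgroup.zpowers x :=
      hPz ▸ (Subgroup.mem_normalizer_iff.mp h'.2 x).mp x'.2
    classical
    obtain ⟨i, hi⟩ := (mem_zpowers_iff_mem_range_orderOf).mp hm |> Finset.mem_image.mp
    exact ⟨(i : ZMod 7), by
      have h5 := pow_mod_orderOf x i
      rw [hx] at h5
      rw [ZMod.val_natCast, h5, hi.2]⟩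
  have hit : ∀ m : ℕ, h ^ m * x * (h ^ m)⁻¹ = x ^ (r ^ m).val := by
    intro m
    induction m with
    | zero => rw [pow_zero, pow_zero, one_mul, inv_one, mul_one, ZMod.val_one, pow_one]
    | succ m ih =>
      calc h ^ (m + 1) * x * (h ^ (m + 1))⁻¹ = h * (h ^ m * x * (h ^ m)⁻¹) * h⁻¹ := by
            rw [pow_succ']; group
        _ = (h * x * h⁻¹) ^ (r ^ m).val := by rw [ih, conj_pow]
        _ = x ^ (r ^ (m + 1)).val := by rw [hr, ← pow_val_mul hx, pow_succ']
  have hne : r ≠ 1 := by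
    intro e
    rw [e, ZMod.val_one, pow_one, mul_inv_eq_iff_eq_mul] at hr
    have hm : h ∈ Subgroup.centralizer ({x} : Set G) :=
      Subgroup.mem_centralizer_singleton_iff.mpr hr
    have h1 : orderOf (⟨h, hm⟩ : Subgroup.centralizer ({x} : Set G)) ∣ 7 := hC ▸ orderOf_dvd_natCard _
    rw [Subgroup.orderOf_mk, ho] at h1
    norm_num at h1
  have h3 : r ^ 3 = 1 := by
    have h1 := hit 3
    rw [← ho, pow_orderOf_eq_one, one_mul, inv_one, mul_one, ho] at h1
    conv_lhs at h1 => rw [← pow_one x]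
    rw [pow_inj_mod, hx] at h1
    rw [← ZMod.natCast_zmod_val (r ^ 3), ← Nat.cast_one, ZMod.natCast_eq_natCast_iff]
    exact h1.symm
  refine ⟨x, hx, hC, ?_, ?_⟩
  · rcases cube_roots r h3 hne with e | e
    · exact isConj_iff.mpr ⟨h, by rw [hr, e]; rfl⟩
    · exact isConj_iff.mpr ⟨h ^ 2, by rw [hit 2, e]; rfl⟩
  · rw [isConj_iff]
    rintro ⟨g, hg⟩
    have hgN : g ∈ N := by
      rw [hNdef, Subgroup.mem_normalizer_iff]
      intro y
      have : Subgroup.map (MulAut.conj g).toMonoidHom (Subgroup.zpowers x) = Subgroup.zpowers x := by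
        rw [MonoidHom.map_zpowers]
        show Subgroup.zpowers (g * x * g⁻¹) = _
        rw [hg, Subgroup.zpowers_inv]
      simp only [hPz]
      constructor
      · intro hy
        rw [← this]
        exact ⟨y, hy, rfl⟩
      · intro hy
        rw [← this] at hy
        obtain ⟨z, hz, hzy⟩ := hy
        have : z = y := by simpa using hzy
        exact this ▸ hz
    have h21' : g ^ 21 = 1 := by
      have := pow_card_eq_one' (x := (⟨g, hgN⟩ : N))
      rw [hN] at this
      exact congrArg Subtype.val this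
    have h2 : g ^ 2 * x * (g ^ 2)⁻¹ = x := by
      calc g ^ 2 * x * (g ^ 2)⁻¹ = g * (g * x * g⁻¹) * g⁻¹ := by rw [sq, mul_inv_rev]; simp only [mul_assoc]
        _ = g * x⁻¹ * g⁻¹ := by rw [hg]
        _ = (g * x * g⁻¹)⁻¹ := conj_inv.symm
        _ = x := by rw [hg, inv_inv]
    rw [mul_inv_eq_iff_eq_mul] at h2
    have hgC : Commute g x := by
      have h' : Commute ((g ^ 2) ^ 11) x := Commute.pow_left h2 11
      rwa [← pow_mul, show 2 * 11 = 21 + 1 from rfl, pow_succ, h21', one_mul] at h'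
    rw [hgC.eq, mul_inv_cancel_right] at hg
    have : x ^ 2 = 1 := by
      rw [sq]
      nth_rewrite 2 [hg]
      exact mul_inv_cancel x
    have hd := orderOf_dvd_of_pow_eq_one this
    rw [hx] at hd
    norm_num at hd

end Group

/-- The sum over the squares. -/
noncomputable def gaussS : ℂ :=
  ZMod.stdAddChar (1 : ZMod 7) + ZMod.stdAddChar (2 : ZMod 7) + ZMod.stdAddChar (4 : ZMod 7)

/-- The sum over the nonsquares. -/
noncomputable def gaussT : ℂ :=
  ZMod.stdAddChar (3 : ZMod 7) + ZMod.stdAddChar (5 : ZMod 7) + ZMod.stdAddChar (6 : ZMod 7)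

theorem conj_gaussS : conj gaussS = gaussT := by
  simp only [gaussS, gaussT, map_add, ← AddChar.map_neg_eq_conj]
  rw [show -(1 : ZMod 7) = 6 by decide, show -(2 : ZMod 7) = 5 by decide,
    show -(4 : ZMod 7) = 3 by decide]
  ring

theorem gauss_rel : gaussS + gaussT = -1 ∧ gaussS * gaussT = 2 := by
  have h := sum_stdAddChar (p := 7) (1 : ZMod 7)
  rw [if_neg one_ne_zero_seven, univ_seven] at h
  repeat rw [Finset.sum_insert (by decide)] at h
  rw [Finset.sum_singleton] at h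
  simp only [mul_one, AddChar.map_zero_eq_one] at h
  refine ⟨by simp only [gaussS, gaussT]; linear_combination h, ?_⟩
  simp only [gaussS, gaussT, add_mul, mul_add, ← AddChar.map_add_eq_mul]
  rw [show (1 : ZMod 7) + 3 = 4 by decide, show (1 : ZMod 7) + 5 = 6 by decide,
    show (1 : ZMod 7) + 6 = 0 by decide, show (2 : ZMod 7) + 3 = 5 by decide,
    show (2 : ZMod 7) + 5 = 0 by decide, show (2 : ZMod 7) + 6 = 1 by decide,
    show (4 : ZMod 7) + 3 = 0 by decide, show (4 : ZMod 7) + 5 = 2 by decide,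
    show (4 : ZMod 7) + 6 = 3 by decide, AddChar.map_zero_eq_one]
  linear_combination h

theorem gauss_sq : (gaussS - gaussT) ^ 2 = -7 := by
  obtain ⟨h1, h2⟩ := gauss_rel
  linear_combination (gaussS + gaussT - 1) * h1 - 4 * h2

theorem gauss_ne : gaussS - gaussT ≠ 0 := fun h => by
  have := gauss_sq
  rw [h] at this
  norm_num at this

section Column

variable {G : Type*} [Group G] [Finite G]

theorem exists_column_coords {x : G} (hx : orderOf x = 7)
    (h2 : IsConj x (x ^ 2)) {χ : G → ℂ} (hχ : Cfsg.IsCharacter G χ) :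
    ∃ (a b : ℤ) (d : ℕ), χ 1 = d ∧ χ x + conj (χ x) = a ∧
      χ x - conj (χ x) = b * (gaussS - gaussT) ∧ 4 * (χ x * conj (χ x)) = ((a ^ 2 + 7 * b ^ 2 : ℤ) : ℂ) ∧
      (7 : ℤ) ∣ a - 2 * d ∧ (2 : ℤ) ∣ a - b := by
  obtain ⟨c, hc⟩ := exists_count hx hχ
  obtain ⟨u, hu⟩ := isConj_iff.mp h2
  have hinv : ∀ k : ZMod 7, c (2 * k) = c k := by
    refine count_pow hx hc hc two_ne_zero_seven fun j => ?_
    rw [pow_val_mul hx, show (2 : ZMod 7).val = 2 from rfl]
    exact IsClassFunction.apply_eq_of_isConj (IsCharacter.isClassFunction hχ)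
      (isConj_iff.mpr ⟨u, by rw [← conj_pow, hu]⟩)
  have c2 : c 2 = c 1 := (congrArg c (mul_one (2 : ZMod 7))).symm.trans (hinv 1)
  have c4 : c 4 = c 1 := by
    rw [← c2, ← hinv 2]
    rfl
  have c6 : c 6 = c 3 := hinv 3
  have c5 : c 5 = c 3 := by
    rw [← c6, ← hinv 6]
    rfl
  have hd := sum_count hx hc
  have hv := hc 1
  rw [ZMod.val_one, pow_one] at hv
  simp only [mul_one, univ_seven] at hv hd
  repeat rw [Finset.sum_insert (by simp [Finset.mem_insert]; decide +revert)] at hv hd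
  rw [Finset.sum_singleton] at hv hd
  rw [c2, c4, c5, c6] at hv hd
  simp only [AddChar.map_zero_eq_one, mul_one] at hv
  have hv' : χ x = c 0 + c 1 * gaussS + c 3 * gaussT := by
    rw [hv, gaussS, gaussT]; ring
  have hvc : conj (χ x) = c 0 + c 1 * gaussT + c 3 * gaussS := by
    rw [hv', map_add, map_add, map_mul, map_mul, map_natCast, map_natCast, map_natCast, conj_gaussS,
      ← conj_gaussS, Complex.conj_conj]
  obtain ⟨hs, hp⟩ := gauss_rel
  refine ⟨2 * (c 0 : ℤ) - c 1 - c 3, (c 1 : ℤ) - c 3, _, hd, ?_, ?_, ?_,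
    ⟨-(c 1 : ℤ) - c 3, by push_cast; ring⟩, ⟨(c 0 : ℤ) - c 1, by ring⟩⟩
  · rw [hvc, hv']; push_cast; linear_combination ((c 1 : ℂ) + c 3) * hs
  · rw [hvc, hv']; push_cast; ring
  · rw [hvc, hv']
    push_cast
    linear_combination (4 * (c 0 : ℂ) * ((c 1 : ℂ) + c 3) + 4 * (c 1 : ℂ) * c 3 * (gaussS + gaussT - 1)) * hs
      + (4 * ((c 1 : ℂ) ^ 2 + (c 3 : ℂ) ^ 2) - 8 * (c 1 : ℂ) * c 3) * hp

end Column

theorem degree_cases : ∀ d ∈ List.range 78, d ∣ 6048 → ¬ 6 ∣ d → d ≠ 1 →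
    ((d % 7 = 1 → d = 8) ∧ (d % 7 = 6 → d = 27)) ∧
      ((d % 7 = 4 → d = 4 ∨ d = 32) ∧ (d % 7 = 3 → d = 3)) := by
  decide +kernel

theorem exists_six_dvd_degree {G : Type*} [Group G] [Finite G] [IsSimpleGroup G]
    (hnc : ¬ IsMulCommutative G) (hG : Nat.card G = 6048) (h14 : ∀ g : G, orderOf g ≠ 14)
    (h21 : ∀ g : G, orderOf g ≠ 21) :
    ∃ (χ : G → ℂ) (d : ℕ), Cfsg.IsIrrCharacter G χ ∧ χ 1 = d ∧ 6 ∣ d := by
  classical
  haveI := Fintype.ofFinite G
  by_contra hno
  push Not at hno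
  obtain ⟨x, hx, hC, h2, hinv⟩ := seven_setup hG h14 h21
  choose! a b d hd hre him hsq h7 hpar using fun χ (hχ : χ ∈ irrFinset G) =>
    exists_column_coords hx h2 (IsIrrCharacter.isCharacter (mem_irrFinset.1 hχ))
  have hx1 : ¬ IsConj x (1 : G) := by
    rw [isConj_one_left]
    intro h
    rw [h, orderOf_one] at hx
    norm_num at hx
  have hcol : ∑ χ ∈ irrFinset G, χ x * conj (χ x) = 7 := by
    rw [sum_irr_mul_conj, if_pos (IsConj.refl _), hC]
    norm_num
  have hcol1 : ∑ χ ∈ irrFinset G, χ x * conj (χ 1) = 0 := by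
    rw [sum_irr_mul_conj, if_neg hx1]
  have hW : ∑ χ ∈ irrFinset G, (a χ ^ 2 + 7 * b χ ^ 2) = 28 := by
    have : ((∑ χ ∈ irrFinset G, (a χ ^ 2 + 7 * b χ ^ 2) : ℤ) : ℂ) = ((28 : ℤ) : ℂ) := by
      rw [Int.cast_sum, ← Finset.sum_congr rfl hsq, ← Finset.mul_sum, hcol]
      norm_num
    exact_mod_cast this
  have hD : ∑ χ ∈ irrFinset G, (d χ : ℤ) * a χ = 0 := by
    have h1 : ∑ χ ∈ irrFinset G, χ x * (d χ : ℂ) = 0 :=
      Eq.trans (Finset.sum_congr rfl fun χ hχ => by rw [hd χ hχ, Complex.conj_natCast]) hcol1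
    have h2 : ∑ χ ∈ irrFinset G, conj (χ x) * (d χ : ℂ) = 0 := by
      have := congrArg conj h1
      rw [map_sum, map_zero] at this
      exact Eq.trans (Finset.sum_congr rfl fun χ hχ => by rw [map_mul, Complex.conj_natCast]) this
    have : ((∑ χ ∈ irrFinset G, (d χ : ℤ) * a χ : ℤ) : ℂ) = ((0 : ℤ) : ℂ) := by
      rw [Int.cast_sum, Int.cast_zero, ← add_zero (0 : ℂ)]
      nth_rewrite 1 [← h1]
      rw [← h2, ← Finset.sum_add_distrib]
      refine Finset.sum_congr rfl fun χ hχ => ?_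
      push_cast
      rw [← hre χ hχ]
      ring
    exact_mod_cast this
  set one : G → ℂ := fun _ => 1 with hone'
  have hone : one ∈ irrFinset G := mem_irrFinset.2 isIrrCharacter_one
  have ha1 : a one = 2 := by
    have h := hre one hone
    simp only [hone', map_one] at h
    exact_mod_cast (show ((a one : ℤ) : ℂ) = ((2 : ℤ) : ℂ) by rw [← h]; norm_num)
  have hb1 : b one = 0 := by
    have h := him one hone
    simp only [hone', map_one, sub_self] at h
    exact_mod_cast (mul_eq_zero.mp h.symm).resolve_right gauss_ne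
  have hd1 : d one = 1 := by
    have h := hd one hone
    exact_mod_cast (show ((d one : ℕ) : ℂ) = 1 from h.symm)
  have hwex : ∃ w ∈ irrFinset G, b w ≠ 0 := by
    by_contra hb
    push Not at hb
    refine hinv ((isConj_iff_irr_eq x x⁻¹).2 fun χ hχ => ?_)
    have hm := mem_irrFinset.2 hχ
    have h := him χ hm
    rw [hb χ hm, Int.cast_zero, zero_mul, sub_eq_zero] at h
    rw [IsCharacter.apply_inv (IsIrrCharacter.isCharacter hχ), ← h]
  obtain ⟨w, hw, hbw⟩ := hwex
  set w' : G → ℂ := fun g => conj (w g) with hw''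
  have hw' : w' ∈ irrFinset G := mem_irrFinset.2 (IsIrrCharacter.conj (mem_irrFinset.1 hw))
  have haw : a w' = a w := by
    have h1 := hre w hw
    have h2 := hre w' hw'
    simp only [hw'', Complex.conj_conj] at h2
    rw [add_comm, h1] at h2
    exact_mod_cast h2.symm
  have hbw' : b w' = -b w := by
    have h1 := him w hw
    have h2 := him w' hw'
    simp only [hw'', Complex.conj_conj] at h2
    have h3 : ((b w' : ℤ) : ℂ) * (gaussS - gaussT) = ((-b w : ℤ) : ℂ) * (gaussS - gaussT) := by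
      push_cast
      linear_combination -h1 - h2
    exact_mod_cast mul_right_cancel₀ gauss_ne h3
  have hdw : d w' = d w := by
    have h := hd w' hw'
    simp only [hw'', hd w hw, Complex.conj_natCast] at h
    exact_mod_cast h.symm
  have hne1 : w ≠ one := fun h => hbw (h ▸ hb1)
  have hne2 : w' ≠ one := fun h => hbw (by have := hbw'; rw [h, hb1] at this; omega)
  have hne3 : w' ≠ w := fun h => hbw (by rw [h] at hbw'; omega)
  set R := (((irrFinset G).erase one).erase w).erase w' with hR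
  have hsplit : ∀ f : (G → ℂ) → ℤ,
      ∑ χ ∈ irrFinset G, f χ = f one + (f w + (f w' + ∑ χ ∈ R, f χ)) := by
    intro f
    rw [← Finset.add_sum_erase _ _ hone, ← Finset.add_sum_erase _ _
      (Finset.mem_erase.mpr ⟨hne1, hw⟩), ← Finset.add_sum_erase _ _
      (Finset.mem_erase.mpr ⟨hne3, Finset.mem_erase.mpr ⟨hne2, hw'⟩⟩)]
  rw [hsplit, ha1, hb1, haw, hbw'] at hW
  rw [hsplit, ha1, hd1, haw, hdw] at hD
  have hR0 : (0 : ℤ) ≤ ∑ χ ∈ R, (a χ ^ 2 + 7 * b χ ^ 2) :=
    Finset.sum_nonneg fun χ _ => by positivity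
  have hbw1 : b w ^ 2 = 1 := by
    have h1 : 0 < b w ^ 2 := sq_pos_of_ne_zero hbw
    nlinarith [sq_nonneg (a w)]
  have hbcases : b w = 1 ∨ b w = -1 := sq_eq_one_iff.mp hbw1
  have haw1 : a w = 1 ∨ a w = -1 := by
    have h5 : a w ^ 2 ≤ 5 := by nlinarith
    have hlo : -2 ≤ a w := by nlinarith
    have hhi : a w ≤ 2 := by nlinarith
    have := hpar w hw
    omega
  have haw2 : a w ^ 2 = 1 := sq_eq_one_iff.mpr haw1
  rw [neg_sq, haw2, hbw1] at hW
  have hR8 : ∑ χ ∈ R, (a χ ^ 2 + 7 * b χ ^ 2) = 8 := by linarith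
  have hsum0 : ∑ χ ∈ irrFinset G, χ 1 ^ 2 = (6048 : ℂ) := by rw [sum_degree_sq, hG]; norm_num
  have hdeg : ∀ χ ∈ irrFinset G, χ ≠ one → ((d χ % 7 = 1 → d χ = 8) ∧ (d χ % 7 = 6 → d χ = 27)) ∧
      ((d χ % 7 = 4 → d χ = 4 ∨ d χ = 32) ∧ (d χ % 7 = 3 → d χ = 3)) := by
    intro χ hχ hne
    have hi := mem_irrFinset.1 hχ
    refine degree_cases _ (List.mem_range.mpr ?_) ?_ (hno χ _ hi (hd χ hχ)) ?_
    · have hsum : ∑ ψ ∈ irrFinset G, d ψ ^ 2 = 6048 := by
        have : ((∑ ψ ∈ irrFinset G, d ψ ^ 2 : ℕ) : ℂ) = ((6048 : ℕ) : ℂ) := by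
          push_cast
          rw [← hsum0]
          exact Finset.sum_congr rfl fun ψ hψ => by rw [hd ψ hψ]
        exact_mod_cast this
      have h1 : d χ ^ 2 ≤ 6048 :=
        hsum ▸ Finset.single_le_sum (f := fun ψ => d ψ ^ 2) (fun _ _ => Nat.zero_le _) hχ
      nlinarith
    · exact hG ▸ IsIrrCharacter.degree_dvd_card hi (hd χ hχ)
    · intro h
      exact ColumnData.ne_one_of_simple hnc hi hne (by rw [hd χ hχ, h, Nat.cast_one])
  have hRmem : ∀ χ ∈ R, χ ∈ irrFinset G ∧ χ ≠ one ∧ χ ≠ w ∧ χ ≠ w' := fun χ hχ => by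
    simp only [hR, Finset.mem_erase] at hχ
    exact ⟨hχ.2.2.2, hχ.2.2.1, hχ.2.1, hχ.1⟩
  have hRb : ∀ χ ∈ R, b χ = 0 := by
    intro χ hχ
    by_contra hb
    obtain ⟨hm, hn1, hnw, hnw'⟩ := hRmem χ hχ
    set χ' : G → ℂ := fun g => conj (χ g) with hχ''
    have hm' : χ' ∈ irrFinset G := mem_irrFinset.2 (IsIrrCharacter.conj (mem_irrFinset.1 hm))
    have hinvol : ∀ ψ : G → ℂ, (fun g => conj (conj (ψ g))) = ψ := fun ψ =>
      funext fun g => Complex.conj_conj _
    have hR' : χ' ∈ R := by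
      simp only [hR, Finset.mem_erase]
      refine ⟨fun h => hnw ?_, fun h => hnw' ?_, fun h => hn1 ?_, hm'⟩
      · rw [← hinvol χ, ← hinvol w]
        funext g
        exact congrArg conj (congrFun h g)
      · rw [← hinvol χ, hw'', ← h]
      · rw [← hinvol χ]
        funext g
        rw [show conj (χ g) = 1 from congrFun h g, map_one]
    have hb' : b χ' = -b χ := by
      have h1 := him χ hm
      have h2 := him χ' hm'
      simp only [hχ'', Complex.conj_conj] at h2
      have h3 : ((b χ' : ℤ) : ℂ) * (gaussS - gaussT) = ((-b χ : ℤ) : ℂ) * (gaussS - gaussT) := by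
        push_cast
        linear_combination -h1 - h2
      exact_mod_cast mul_right_cancel₀ gauss_ne h3
    have hne : χ ≠ χ' := fun h => hb (by rw [← h] at hb'; omega)
    have h2 : ∑ ψ ∈ ({χ, χ'} : Finset (G → ℂ)), (a ψ ^ 2 + 7 * b ψ ^ 2) ≤ 8 :=
      hR8 ▸ Finset.sum_le_sum_of_subset_of_nonneg
        (Finset.insert_subset hχ (Finset.singleton_subset_iff.mpr hR')) fun ψ _ _ => by positivity
    rw [Finset.sum_pair hne, hb', neg_sq] at h2
    have h1 : 0 < b χ ^ 2 := sq_pos_of_ne_zero hb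
    nlinarith [sq_nonneg (a χ), sq_nonneg (a χ')]
  have hterm : ∀ χ ∈ R, a χ ≠ 0 →
      a χ ^ 2 = 4 ∧ ((d χ : ℤ) * a χ = 16 ∨ (d χ : ℤ) * a χ = -54) := by
    intro χ hχ ha
    obtain ⟨hm, hn1, -, -⟩ := hRmem χ hχ
    have h8 : a χ ^ 2 + 7 * b χ ^ 2 ≤ 8 :=
      hR8 ▸ Finset.single_le_sum (f := fun ψ => a ψ ^ 2 + 7 * b ψ ^ 2)
        (fun ψ _ => by positivity) hχ
    rw [hRb χ hχ] at h8
    have hlo : -2 ≤ a χ := by nlinarith
    have hhi : a χ ≤ 2 := by nlinarith
    have hp := hpar χ hm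
    rw [hRb χ hχ] at hp
    have h7' := h7 χ hm
    obtain ⟨⟨e1, e6⟩, -⟩ := hdeg χ hm hn1
    rcases (by omega : a χ = 2 ∨ a χ = -2) with e | e
    · exact ⟨by rw [e]; norm_num, Or.inl (by rw [e, e1 (by omega)]; norm_num)⟩
    · exact ⟨by rw [e]; norm_num, Or.inr (by rw [e, e6 (by omega)]; norm_num)⟩
  have hcard : (R.filter fun χ => a χ ≠ 0).card = 2 := by
    have h : ∑ χ ∈ R, (a χ ^ 2 + 7 * b χ ^ 2) = ∑ χ ∈ R.filter (fun χ => a χ ≠ 0), (4 : ℤ) := by
      rw [Finset.sum_filter]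
      refine Finset.sum_congr rfl fun χ hχ => ?_
      rw [hRb χ hχ]
      by_cases ha : a χ = 0
      · rw [if_neg (not_not.mpr ha), ha]; norm_num
      · rw [if_pos ha, (hterm χ hχ ha).1]; norm_num
    rw [hR8, Finset.sum_const, nsmul_eq_mul] at h
    omega
  obtain ⟨u, v, huv, huvR⟩ := Finset.card_eq_two.mp hcard
  have hRD : ∑ χ ∈ R, (d χ : ℤ) * a χ = (d u : ℤ) * a u + (d v : ℤ) * a v := by
    rw [← Finset.sum_pair (f := fun χ => (d χ : ℤ) * a χ) huv, ← huvR]
    refine (Finset.sum_filter_of_ne fun χ _ h => ?_).symm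
    exact fun ha => h (by rw [ha, mul_zero])
  have hu : u ∈ R ∧ a u ≠ 0 := Finset.mem_filter.mp (huvR ▸ Finset.mem_insert_self u {v})
  have hv : v ∈ R ∧ a v ≠ 0 :=
    Finset.mem_filter.mp (huvR ▸ Finset.mem_insert_of_mem (Finset.mem_singleton_self v))
  rw [hRD] at hD
  have hwterm : (d w : ℤ) * a w = 4 ∨ (d w : ℤ) * a w = 32 ∨ (d w : ℤ) * a w = -3 := by
    obtain ⟨-, e4, e3⟩ := hdeg w hw hne1
    have h7' := h7 w hw
    rcases haw1 with e | e
    · rcases e4 (by omega) with h | h <;> simp [e, h]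
    · simp [e, e3 (by omega)]
  rcases (hterm u hu.1 hu.2).2 with h1 | h1 <;> rcases (hterm v hv.1 hv.2).2 with h2 | h2 <;>
    rcases hwterm with h3 | h3 | h3 <;> rw [h1, h2, h3] at hD <;> norm_num at hD

end CfsgLib.U33Deg
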