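import Cfsg.Agent.Char.Clifford
import Cfsg.Agent.Char.Induction
import Mathlib.GroupTheory.SemidirectProduct
import Mathlib.GroupTheory.Solvable
import Mathlib.Data.ZMod.Basic
import Mathlib.Analysis.Fourier.ZMod

/-!
# A solvable group of order 6048 with an irreducible character of degree 42
-/

set_option autoImplicit false
set_option maxRecDepth 100000
set_option linter.style.haveILetI false

namespace CfsgLib.U33Deg

open CfsgLib.Char

/-- The abelian normal subgroup, written additively. -/
abbrev NAdd : Type := (ZMod 2 × ZMod 2 × ZMod 2) × (ZMod 3 × ZMod 3)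

/-- An automorphism of order 42. -/
def autA : NAdd ≃+ NAdd where
  toFun v := ((v.1.2.2, v.1.1 + v.1.2.2, v.1.2.1), (-v.2.1 - v.2.2, -v.2.2))
  invFun v := ((v.1.2.1 - v.1.1, v.1.2.2, v.1.1), (-v.2.1 + v.2.2, -v.2.2))
  left_inv := by decide +kernel
  right_inv := by decide +kernel
  map_add' := by decide +kernel

/-- The same automorphism, multiplicatively. -/
def autM : MulAut (Multiplicative NAdd) := AddEquiv.toMultiplicative autA

theorem autM_pow (k : ℕ) (v : NAdd) :
    (autM ^ k) (Multiplicative.ofAdd v) = Multiplicative.ofAdd (autA^[k] v) := by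
  induction k with
  | zero => rfl
  | succ k ih =>
    rw [pow_succ', MulAut.mul_apply, ih, Function.iterate_succ_apply']
    rfl

theorem autM_pow_42 : autM ^ 42 = 1 := by
  have h : ∀ v : NAdd, autA^[42] v = v := by decide +kernel
  refine MulEquiv.ext fun v => ?_
  obtain ⟨v, rfl⟩ := Multiplicative.ofAdd.surjective v
  rw [autM_pow, h]
  rfl

/-- An additive functional on the normal subgroup. -/
def fAdd : NAdd →+ ZMod 6 where
  toFun v := 3 * (v.1.1.val : ZMod 6) + 2 * (v.2.1.val : ZMod 6)
  map_zero' := by decide
  map_add' := by decide +kernel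

theorem fAdd_moved : ∀ k : Fin 42, (∀ v : NAdd, fAdd (autA^[k.val] v) = fAdd v) → k = 0 := by
  decide +kernel

theorem orderOf_autM : orderOf autM = 42 := by
  rw [orderOf_eq_iff (by norm_num)]
  refine ⟨autM_pow_42, fun m hm hm0 h => ?_⟩
  have h0 := fAdd_moved ⟨m, hm⟩ fun v => by
    have := DFunLike.congr_fun h (Multiplicative.ofAdd v)
    rw [autM_pow, MulAut.one_apply] at this
    rw [Multiplicative.ofAdd.injective this]
  exact hm0.ne' (congrArg Fin.val h0)

/-- The semidirect product of order `72 * 42`. -/
abbrev H0 : Type :=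
  Multiplicative NAdd ⋊[(Subgroup.zpowers autM).subtype] (Subgroup.zpowers autM)

/-- The witness. -/
abbrev W : Type := H0 × Multiplicative (ZMod 2)

instance finite_cyc : Finite (Subgroup.zpowers autM) :=
  Nat.finite_of_card_ne_zero (by rw [Nat.card_zpowers, orderOf_autM]; norm_num)

instance finite_H0 : Finite H0 := Finite.of_equiv _ SemidirectProduct.equivProd.symm

theorem card_H0 : Nat.card H0 = 72 * 42 := by
  rw [SemidirectProduct.card, Nat.card_zpowers, orderOf_autM]
  congr 1
  rw [Nat.card_eq_fintype_card]
  rfl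

theorem card_W : Nat.card W = 6048 := by
  rw [Nat.card_prod, card_H0, Nat.card_eq_fintype_card]
  rfl

theorem isSolvable_W : Group.IsSolvable W := by
  haveI : Group.IsSolvable (Multiplicative NAdd) := inferInstance
  haveI : Group.IsSolvable (Subgroup.zpowers autM) :=
    Group.isSolvable_of_comm fun a b => mul_comm' a b
  haveI : Group.IsSolvable H0 :=
    Group.isSolvable_of_ker_le_range SemidirectProduct.inl SemidirectProduct.rightHom
      SemidirectProduct.range_inl_eq_ker_rightHom.ge
  infer_instance

/-- The normal subgroup of the semidirect product. -/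
abbrev base0 : Subgroup H0 :=
  (SemidirectProduct.rightHom : H0 →* Subgroup.zpowers autM).ker

/-- The linear character of the normal subgroup. -/
noncomputable def lam : base0 →* ℂˣ :=
  MonoidHom.toHomUnits
    { toFun := fun y => ZMod.stdAddChar (fAdd (Multiplicative.toAdd (y : H0).left))
      map_one' := by simp
      map_mul' := fun a b => by
        have hr : ((a : H0)).right = 1 := a.2
        simp [SemidirectProduct.mul_left, hr, AddChar.map_add_eq_mul] }

theorem exists_degree_42 : ∃ χ : W → ℂ, Cfsg.IsIrrCharacter W χ ∧ χ 1 = 42 := by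
  classical
  haveI : Fintype H0 := Fintype.ofFinite _
  haveI : Fintype base0 := Fintype.ofFinite _
  set θ : base0 → ℂ := fun y => (lam y : ℂ) with hθdef
  have hθ : Cfsg.IsIrrCharacter base0 θ := isIrrCharacter_ofHom lam
  have hI : inertia θ ≤ base0 := by
    intro g hg
    rw [MonoidHom.mem_ker]
    obtain ⟨⟨c, hc⟩, hgc⟩ : ∃ c, g.right = c := ⟨_, rfl⟩
    have hfin : IsOfFinOrder autM := orderOf_pos_iff.mp (by rw [orderOf_autM]; norm_num)
    obtain ⟨k, rfl⟩ := hfin.mem_powers_iff_mem_zpowers.mpr hc
    have hk : autM ^ k = autM ^ (k % 42) := by rw [← orderOf_autM, pow_mod_orderOf]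
    have key : ∀ v : NAdd, fAdd (autA^[k % 42] v) = fAdd v := by
      intro v
      have h := congrFun ((mem_inertia θ g).1 hg)
        ⟨SemidirectProduct.inl (Multiplicative.ofAdd v), by simp [MonoidHom.mem_ker]⟩
      simp only [conjOn_apply, hθdef, lam, MonoidHom.coe_toHomUnits, MonoidHom.coe_mk,
        OneHom.coe_mk, SemidirectProduct.mul_left, SemidirectProduct.inv_left,
        SemidirectProduct.mul_right, SemidirectProduct.left_inl, SemidirectProduct.right_inl,
        mul_one, toAdd_mul, map_inv, toAdd_inv] at h
      have h' := ZMod.injective_stdAddChar h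
      rw [hgc] at h'
      simp [hk, autM_pow] at h'
      exact h'
    have h0 := fAdd_moved ⟨k % 42, Nat.mod_lt _ (by norm_num)⟩ key
    show g.right = 1
    rw [hgc]
    refine Subtype.ext ?_
    show autM ^ k = 1
    rw [hk, show k % 42 = 0 from congrArg Fin.val h0, pow_zero]
  have hirr := isIrrCharacter_indFun_of_inertia_le hθ hI
  refine ⟨_, IsIrrCharacter.comp_surjective hirr (MonoidHom.fst H0 (Multiplicative (ZMod 2)))
    Prod.fst_surjective, ?_⟩
  show Cfsg.indFun base0 θ 1 = 42
  have hidx : base0.index = 42 := by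
    rw [Subgroup.index_ker, MonoidHom.range_eq_top.mpr SemidirectProduct.rightHom_surjective,
      Subgroup.card_top, Nat.card_zpowers, orderOf_autM]
  rw [indFun_one, hidx]
  simp [hθdef]

end CfsgLib.U33Deg
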