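/-!
# Tables for the action of `PSU(3,3)` on 63 points
-/

set_option autoImplicit false

namespace CfsgLib.U33Deg

/-- The four generating involutions on the 63 points. -/
def sigT : List (List Nat) :=
  [[0, 1, 3, 2, 5, 4, 6, 8, 7, 10, 9, 11, 15, 14, 13, 12, 16, 20, 19, 18, 17, 21, 25, 24, 23, 22, 27, 26, 31, 33, 32, 28, 30, 29, 35, 34, 39, 41, 40, 36, 38, 37, 42, 46, 45, 44, 43, 48, 47, 52, 54, 53, 49, 51, 50, 56, 55, 60, 62, 61, 57, 59, 58], [0, 1, 3, 2, 5, 4, 6, 7, 8, 9, 10, 16, 17, 18, 19, 20, 11, 12, 13, 14, 15, 42, 43, 44, 45, 46, 55, 56, 57, 58, 59, 60, 61, 62, 47, 48, 49, 50, 51, 52, 53, 54, 21, 22, 23, 24, 25, 34, 35, 36, 37, 38, 39, 40, 41, 26, 27, 28, 29, 30, 31, 32, 33], [33, 58, 51, 40, 6, 5, 4, 48, 13, 39, 24, 19, 22, 8, 47, 59, 34, 50, 18, 11, 60, 44, 12, 36, 10, 61, 28, 32, 26, 29, 31, 30, 27, 0, 16, 35, 23, 43, 53,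 9, 3, 55, 49, 37, 21, 45, 56, 14, 7, 42, 17, 2, 52, 38, 57, 41, 46, 54, 1, 15, 20, 25, 62], [32, 59, 2, 6, 54, 37, 3, 22, 34, 52, 15, 17, 49, 23, 62, 10, 36, 11, 51, 55, 20, 46, 7, 13, 58, 35, 33, 28, 27, 31, 30, 29, 0, 26, 8, 25, 16, 5, 44, 39, 57, 50, 48, 43, 38, 60, 21, 47, 42, 12, 41, 18, 9, 56, 4, 19, 53, 40, 24, 1, 45, 61, 14]]

/-- Neighbours in the orthogonality graph. -/
def nbrT : List (List Nat) :=
  [[1, 6, 11, 16, 21, 42], [0, 6, 7, 8, 9, 10], [3, 6, 30, 41, 50, 61], [2, 6, 32, 37, 54, 59], [5, 6, 33, 40, 51, 58], [4, 6, 29, 38, 53, 62], [0, 1, 2, 3, 4, 5], [1, 8, 27, 35, 48, 56], [1, 7, 26, 34, 47, 55], [1, 10, 31, 39, 52, 60], [1, 9, 28, 36, 49, 57], [0, 16, 17, 18, 19, 20], [15, 16, 26, 38, 49, 61], [14, 16, 28, 41, 48, 58], [13, 16, 31, 37, 47, 62], [12, 16, 27, 40, 52, 59], [0, 11, 12, 13, 14, 15], [11, 20, 32, 36,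 51, 55], [11, 19, 29, 35, 54, 57], [11, 18, 33, 34, 50, 60], [11, 17, 30, 39, 53, 56], [0, 42, 43, 44, 45, 46], [25, 28, 34, 42, 53, 59], [24, 27, 36, 42, 50, 62], [23, 26, 39, 42, 54, 58], [22, 31, 35, 42, 51, 61], [8, 12, 24, 38, 54, 55], [7, 15, 23, 40, 50, 56], [10, 13, 22, 41, 53, 57], [5, 18, 35, 45, 52, 62], [2, 20, 39, 43, 47, 61], [9, 14, 25, 37, 51, 60], [3, 17, 36, 46, 48, 59], [4, 19, 34, 44, 49, 58], [8, 19, 22, 33, 47, 59], [7, 18, 25, 29, 48, 61], [10, 17, 23, 32, 49, 62], [3, 14, 31, 44, 54, 56], [5, 12, 26, 46, 53, 60], [9, 20, 24, 30, 52, 58], [4, 15, 27, 43, 51, 57], [2, 13, 28, 45, 50, 55], [0, 21, 22, 23, 24, 25], [21, 30, 40, 46, 47, 57], [21, 33, 37, 45, 49, 56], [21, 29, 41, 44, 52, 55], [21, 32, 38, 43, 48, 60], [8, 14, 30, 34, 43, 62], [7, 13, 32, 35, 46, 58], [10, 12, 33, 36, 44, 61], [2, 19, 23, 27, 41,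 60], [4, 17, 25, 31, 40, 55], [9, 15, 29, 39, 45, 59], [5, 20, 22, 28, 38, 56], [3, 18, 24, 26, 37, 57], [8, 17, 26, 41, 45, 51], [7, 20, 27, 37, 44, 53], [10, 18, 28, 40, 43, 54], [4, 13, 24, 33, 39, 48], [3, 15, 22, 32, 34, 52], [9, 19, 31, 38, 46, 50], [2, 12, 25, 30, 35, 49], [5, 14, 23, 29, 36, 47]]

/-- Spanning tree: previous point, generator, depth. -/
def treeT : List (List Nat) :=
  [[0, 0, 0], [58, 2, 4], [51, 2, 6], [40, 2, 6], [54, 3, 6], [37, 3, 6], [4, 2, 7], [22, 3, 5], [13, 2, 5], [10, 0, 6], [24, 2, 5], [19, 2, 5], [15, 0, 5], [14, 0, 4], [62, 3, 3], [59, 2, 4], [11, 1, 6], [20, 0, 6], [13, 1, 5], [14, 1, 4], [60, 2, 5], [46, 3, 5], [25, 0, 4], [24, 0, 5], [58, 3, 4], [61, 2, 3], [33, 3, 2], [32, 2, 2], [26, 2, 3], [33, 0, 2], [32, 0, 2], [29, 3, 3], [0, 3, 1], [0, 2, 1], [47, 1, 5], [25, 3, 4], [23, 2, 6], [41,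 0, 5], [53, 2, 5], [36, 0, 7], [57, 3, 5], [55, 2, 4], [48, 3, 6], [22, 1, 5], [23, 1, 6], [24, 1, 5], [25, 1, 4], [14, 2, 4], [47, 0, 5], [12, 3, 6], [41, 3, 5], [53, 0, 5], [9, 3, 7], [56, 3, 4], [41, 1, 5], [26, 1, 3], [27, 1, 3], [28, 1, 4], [29, 1, 3], [30, 1, 3], [31, 1, 4], [32, 1, 2], [33, 1, 2]]

/-- Orbit forest of the stabiliser of the first point: previous point, word, depth. -/
def stabT : List (List Nat) :=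
  [[0, 0, 0], [1, 0, 0], [2, 0, 0], [2, 0, 1], [45, 1, 5], [44, 1, 5], [21, 1, 3], [24, 1, 4], [23, 1, 3], [7, 0, 5], [8, 0, 4], [21, 0, 3], [24, 0, 4], [9, 1, 6], [10, 1, 5], [23, 0, 3], [1, 1, 1], [2, 1, 1], [43, 0, 3], [46, 0, 4], [3, 1, 2], [16, 0, 2], [19, 0, 5], [17, 0, 2], [20, 0, 3], [18, 0, 4], [26, 0, 0], [26, 1, 1], [34, 0, 4], [40, 0, 4], [37, 0, 7], [28, 1, 5], [41, 0, 7], [38, 0, 4], [62, 1, 3], [58, 1, 4], [55, 0, 4], [61, 0, 6], [56, 1, 3], [56, 0, 3], [62, 0, 3], [60, 1, 6], [16, 1, 2], [17, 1, 2], [18, 1, 4], [15, 0, 4], [20, 1, 3], [36, 1, 5], [39, 1, 4], [26, 0, 1], [38, 1, 4], [29, 0, 5], [27, 0, 2], [33, 0, 5], [40, 1, 4], [52, 0, 3], [49, 0, 2], [51, 1, 6], [52, 1, 3], [50, 0, 5], [48, 0, 5], [48, 1, 5], [49, 1, 2]]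

/-- Two words fixing the first point. -/
def wordT : List (List Nat) :=
  [[3, 0, 1, 3, 2, 1, 0, 2], [3, 2, 0, 3, 2]]

end CfsgLib.U33Deg
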